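import Cfsg.Agent.H902.AltLie
import Cfsg.Agent.H327.RG.Untw
import Cfsg.Agent.BpExc.RowsUntw
import Cfsg.Agent.SmallSimple.S1000.PSLFacts
import Cfsg.Agent.S1057
import Cfsg.Agent.S1055
import Cfsg.Agent.S1059
import Cfsg.Agent.S0283

/-!
# S3509, field automorphisms of `G₂(q)`: the derived group of the subfield group (helper566)
-/

set_option autoImplicit false
open Cfsg

namespace Cfsg.Agent.H566.G2

open Cfsg.Lie Subgroup Cfsg.Agent.BpExc Cfsg.Agent.H327.RG
open Cfsg.Agent.GpExc.Field (glMap emb coe_emb glMap_xG emb_injective coe_glMap glMap_injective)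
open scoped commutatorElement

/-- the order of `A_n` -/
theorem card_alt {n : ℕ} (hn : 5 ≤ n) {S : Type*} [Group S] (e : S ≃* alternatingGroup (Fin n)) :
    2 * Nat.card S = n.factorial := by
  have : Nontrivial (Fin n) := Fin.nontrivial_iff_two_le.2 (by omega)
  rw [Nat.card_congr e.toEquiv, Nat.card_eq_fintype_card, two_mul_card_alternatingGroup, Fintype.card_perm, Fintype.card_fin]

theorem not_alt_of_real {X : Cfsg.Agent.H902.Art.Sh} {p f : ℕ} {S : Type*} [Group S] (h : Cfsg.Agent.H902.Art.Real X p f (Nat.card S))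
    (hc : 20160 < Nat.card S) : ¬ IsAlternating S := by
  rintro ⟨n, hn, ⟨e⟩⟩
  rcases Cfsg.Agent.H902.Art.alt_lie h hn (card_alt hn e) with h1 | h1 | h1 <;> omega

theorem not_alt_g2 {F : Type*} [Field F] [Fintype F] (h3 : 3 ≤ Fintype.card F) : ¬ IsAlternating ↥(chevG2.group F) := by
  obtain ⟨p, hFp⟩ := CharP.exists F
  obtain ⟨n, hp, hn⟩ := FiniteField.card F p
  have hc := Cfsg.Agent.S1059.result (F := F) rfl
  refine not_alt_of_real (X := .G2) (p := p) (f := n) ⟨hp, n.2, ?_, ?_⟩ ?_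
  · change 3 ≤ p ^ (n : ℕ)
    rw [← hn]; exact h3
  · rw [hc, hn]
    change 1 * _ = (p ^ (n : ℕ)) ^ 6 * (_ * _)
    ring
  · rw [hc]
    have h4 : 3 ^ 6 ≤ Fintype.card F ^ 6 := Nat.pow_le_pow_left h3 6
    have h5 : 3 ^ 2 ≤ Fintype.card F ^ 2 := Nat.pow_le_pow_left h3 2
    have h6 : 8 ≤ Fintype.card F ^ 2 - 1 := by omega
    have h7 : 728 ≤ Fintype.card F ^ 6 - 1 := by omega
    calc 20160 < 3 ^ 6 * 8 * 728 := by norm_num
      _ ≤ _ := Nat.mul_le_mul (Nat.mul_le_mul h4 h6) h7

/-- transport -/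
theorem facts_congr {S S' : Type*} [Group S] [Group S'] (e : S ≃* S')
    (h : IsSimpleGroup S ∧ ¬ IsMulCommutative S ∧ ¬ IsAlternating S) :
    IsSimpleGroup S' ∧ ¬ IsMulCommutative S' ∧ ¬ IsAlternating S' := by
  obtain ⟨h1, h2, h3⟩ := h
  refine ⟨e.symm.isSimpleGroup, ?_, ?_⟩
  · intro hc
    apply h2
    refine ⟨⟨fun a b => e.injective ?_⟩⟩
    rw [map_mul, map_mul]
    exact hc.is_comm.comm _ _
  · rintro ⟨n, hn, ⟨f⟩⟩
    exact h3 ⟨n, hn, ⟨e.trans f⟩⟩

/-- the derived group of `G₂(q)` -/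
theorem facts_comm {F : Type} [Field F] [Fintype F] :
    IsSimpleGroup ↥(commutator ↥(chevG2.group F)) ∧ ¬ IsMulCommutative ↥(commutator ↥(chevG2.group F)) ∧
      ¬ IsAlternating ↥(commutator ↥(chevG2.group F)) := by
  by_cases h3' : 3 ≤ Fintype.card F
  · have hs₀ := Cfsg.Agent.S1055.result (F := F) (RowsUntw.exists_ne h3')
    have h4 := not_alt_g2 (F := F) h3'
    have htop : commutator ↥(chevG2.group F) = ⊤ := by
      have hs := hs₀.1
      rcases hs.eq_bot_or_eq_top_of_normal (commutator ↥(chevG2.group F)) inferInstance with h | h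
      · exfalso
        apply hs₀.2
        refine ⟨⟨fun a b => ?_⟩⟩
        have h5 : ⁅a, b⁆ ∈ commutator ↥(chevG2.group F) := Subgroup.commutator_mem_commutator (mem_top a) (mem_top b)
        rw [h, mem_bot, commutatorElement_eq_one_iff_mul_comm] at h5
        exact h5
      · exact h
    rw [htop]
    exact facts_congr topEquiv.symm ⟨hs₀.1, hs₀.2, h4⟩
  · have hE : Fintype.card F = 2 := by
      have := Fintype.one_lt_card (α := F)
      omega
    have : Fact (Nat.Prime 3) := ⟨Nat.prime_three⟩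
    have := Fintype.ofFinite (GaloisField 3 2)
    have hK : Fintype.card (GaloisField 3 2) = 9 := by
      rw [← Nat.card_eq_fintype_card, GaloisField.card 3 2 (by norm_num)]
      norm_num
    obtain ⟨e'⟩ := Cfsg.Agent.S1057.result hE hK
    have hsP := Cfsg.Agent.S0283.result (F := GaloisField 3 2) (q := 3) (by rw [hK]; norm_num) 3 le_rfl (by omega)
    have hcP := SmallSimple.PSLFacts.card_psu_three_three hK
    have hsM : IsSimpleGroup ↥(commutator ↥(chevG2.group F)) := e'.isSimpleGroup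
    have hcM : Nat.card ↥(commutator ↥(chevG2.group F)) = 6048 := by
      rw [← hcP]; exact Nat.card_congr e'.toEquiv
    refine ⟨hsM, ?_, ?_⟩
    · intro hc
      let _ : CommGroup ↥(commutator ↥(chevG2.group F)) :=
        { (inferInstance : Group ↥(commutator ↥(chevG2.group F))) with mul_comm := hc.is_comm.comm }
      have h3 := IsSimpleGroup.prime_card (α := ↥(commutator ↥(chevG2.group F)))
      rw [hcM] at h3
      norm_num at h3
    · rintro ⟨n, hn, ⟨f⟩⟩
      have h1 := card_alt hn f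
      rw [hcM] at h1
      rcases Nat.lt_or_ge n 8 with h2 | h2
      · have h4 := Nat.factorial_le (show n ≤ 7 by omega)
        have h5 : Nat.factorial 7 = 5040 := rfl
        omega
      · have h4 := Nat.factorial_le h2
        have h5 : Nat.factorial 8 = 40320 := rfl
        omega

/-- **(T1)** -/
theorem der_L0 {F : Type} [Field F] [Fintype F] (F₀ : Subfield F) :
    IsSimpleGroup ↥⁅L0 RowsUntw.g2T F₀, L0 RowsUntw.g2T F₀⁆ ∧
      ¬ IsMulCommutative ↥⁅L0 RowsUntw.g2T F₀, L0 RowsUntw.g2T F₀⁆ ∧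
      ¬ IsAlternating ↥⁅L0 RowsUntw.g2T F₀, L0 RowsUntw.g2T F₀⁆ := by
  classical
  have : Fintype ↥F₀ := Fintype.ofFinite _
  let ψ : ↥(chevG2.group ↥F₀) →* ↥(chevG2.group F) := emb RowsUntw.g2T.inList F₀.subtype
  have hψ : Function.Injective ψ := emb_injective _ _
  have h1 : ⁅L0 RowsUntw.g2T F₀, L0 RowsUntw.g2T F₀⁆ = (commutator ↥(chevG2.group ↥F₀)).map ψ := by
    rw [commutator_def, Subgroup.map_commutator, ← MonoidHom.range_eq_map]
    rfl
  rw [h1]
  exact facts_congr ((commutator ↥(chevG2.group ↥F₀)).equivMapOfInjective ψ hψ) facts_comm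

end Cfsg.Agent.H566.G2
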