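import Cfsg.Agent.H566.G2.Elt

/-!
# S3509, the groups `G₂(q)`: the mixed case in coordinates (helper566)
-/

set_option autoImplicit false
set_option linter.unusedSimpArgs false
open Cfsg

namespace Cfsg.Agent.H566.G2

open Cfsg.Lie Cfsg.Agent.H161.Oct

variable {F : Type} [Field F]

/-- `E₁₂` -/
def n0 (F : Type) [Field F] : V F := iA ![0, 0, 1]
/-- `E₂₁` -/
def n1 (F : Type) [Field F] : V F := iB ![0, 0, 1]

theorem n0_eq : n0 F = ![0, 0, 0, 1, 0, 0, 0, 0] := rfl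
theorem n1_eq : n1 F = ![0, 0, 0, 0, 0, 0, 1, 0] := rfl

theorem n0_mul_n1 : zornMul (n0 F) (n1 F) = e1 := by
  rw [n0_eq, n1_eq]
  apply ext8 <;> simp [mul0, mul1, mul2, mul3, mul4, mul5, mul6, mul7, e1]

theorem e1_mul_n0 : zornMul e1 (n0 F) = n0 F := by
  rw [n0_eq, e1_mul]
  apply ext8 <;> simp

theorem n0_mul_e1 : zornMul (n0 F) e1 = 0 := by
  rw [n0_eq, mul_e1]
  apply ext8 <;> simp

/-- an automorphism fixing `e1`, `E₁₂` and mapping `E₂₁` into the block algebra -/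
theorem exists_Bl {g : AutO F} (h1 : (g : V F ≃ₗ[F] V F) e1 = e1) (h0 : (g : V F ≃ₗ[F] V F) (n0 F) = n0 F)
    (h4 : (g : V F ≃ₗ[F] V F) (n1 F) 4 = 0) (h5 : (g : V F ≃ₗ[F] V F) (n1 F) 5 = 0) :
    ∃ (a b c d : F) (h : a * d - b * c = 1), g = Bl a b c d h := by
  obtain ⟨P, hP, hg⟩ := exists_sl g.2 h1
  have e0 := h0
  rw [hg, sl_apply, n0_eq] at e0
  have p02 : P 0 2 = 0 := by
    have := congrFun e0 1
    simpa [slF1] using this
  have p12 : P 1 2 = 0 := by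
    have := congrFun e0 2
    simpa [slF2] using this
  have p22 : P 2 2 = 1 := by
    have := congrFun e0 3
    simpa [slF3] using this
  have q4 : P 1 0 * P 2 1 - P 1 1 * P 2 0 = 0 := by
    rw [hg, sl_apply, n1_eq] at h4
    simpa [slF4] using h4
  have q5 : P 2 0 * P 0 1 - P 2 1 * P 0 0 = 0 := by
    rw [hg, sl_apply, n1_eq] at h5
    simpa [slF5] using h5
  have hd : P 0 0 * P 1 1 - P 0 1 * P 1 0 = 1 := by
    rw [Matrix.det_fin_three, p02, p12, p22] at hP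
    linear_combination hP
  have p20 : P 2 0 = 0 := by
    linear_combination (-(P 2 0)) * hd - P 0 0 * q4 - P 1 0 * q5
  have p21 : P 2 1 = 0 := by
    linear_combination (-(P 2 1)) * hd - P 0 1 * q4 - P 1 1 * q5
  refine ⟨P 0 0, P 0 1, P 1 0, P 1 1, hd, ?_⟩
  apply Subtype.ext
  rw [hg]
  apply LinearEquiv.ext
  intro x
  have hPb : P = bM (P 0 0) (P 0 1) (P 1 0) (P 1 1) := by
    ext i j
    fin_cases i <;> fin_cases j <;> simp [bM, p02, p12, p22, p20, p21]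
  rw [sl_apply]
  change _ = slF (bM (P 0 0) (P 0 1) (P 1 0) (P 1 1)) x
  rw [← hPb]

theorem Bl_n0 {a b c d : F} (h : a * d - b * c = 1) : (Bl a b c d h : V F ≃ₗ[F] V F) (n0 F) = n0 F := by
  rw [Bl_apply, n0_eq]
  apply ext8 <;> simp [bF]

theorem Bl_n1 {a b c d : F} (h : a * d - b * c = 1) : (Bl a b c d h : V F ≃ₗ[F] V F) (n1 F) = n1 F := by
  rw [Bl_apply, n1_eq]
  apply ext8 <;> simp [bF]

theorem Bl_e1 {a b c d : F} (h : a * d - b * c = 1) : (Bl a b c d h : V F ≃ₗ[F] V F) e1 = e1 := by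
  rw [Bl_apply]
  apply ext8 <;> simp [bF, e1]

/-- `u` in coordinates -/
theorem exists_u {a b c d : F} (h : a * d - b * c = 1)
    (hfix : ∀ v, (Bl a b c d h : V F ≃ₗ[F] V F) v = v → v 1 = 0 ∧ v 2 = 0 ∧ v 4 = 0 ∧ v 5 = 0)
    {u : AutO F} (hu : Bl a b c d h * u = u * Bl a b c d h) (hn : (u : V F ≃ₗ[F] V F) (n0 F) = n0 F) :
    ∃ (t : F) (a' b' c' d' : F) (h' : a' * d' - b' * c' = 1), u = Pt t * Bl a' b' c' d' h' := by
  have hst : ∀ v, (Bl a b c d h : V F ≃ₗ[F] V F) v = v →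
      (Bl a b c d h : V F ≃ₗ[F] V F) ((u : V F ≃ₗ[F] V F) v) = (u : V F ≃ₗ[F] V F) v := by
    intro v hv
    rw [← mul_ap, hu, mul_ap, hv]
  set f := (u : V F ≃ₗ[F] V F) e1 with hf
  obtain ⟨f1, f2, f4, f5⟩ := hfix _ (hst e1 (Bl_e1 h))
  rw [← hf] at f1 f2 f4 f5
  have m1 : zornMul f (n0 F) = n0 F := by
    conv_lhs => rw [hf, ← hn]
    rw [← mem_AutO.1 u.2, e1_mul_n0, hn]
  have m2 : zornMul (n0 F) f = 0 := by
    conv_lhs => rw [hf, ← hn]
    rw [← mem_AutO.1 u.2, n0_mul_e1, map_zero]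
  have f0 : f 0 = 1 := by
    have := congrFun m1 3
    rw [n0_eq, mul3] at this
    simpa using this
  have f6 : f 6 = 0 := by
    have := congrFun m1 7
    rw [n0_eq, mul7] at this
    simpa using this
  have f7 : f 7 = 0 := by
    have := congrFun m2 3
    rw [n0_eq, mul3] at this
    simpa using this
  have hfe : f = (Pt (-f 3) : V F ≃ₗ[F] V F) e1 := by
    rw [Pt_apply]
    apply ext8 <;> simp [pF, e1, f0, f1, f2, f4, f5, f6, f7]
  have hPP : Pt (-f 3) * (Pt (f 3) * u) = u := by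
    rw [← mul_assoc, Pt_add, neg_add_cancel, Pt_zero, one_mul]
  have hPn : ∀ t : F, (Pt t : V F ≃ₗ[F] V F) (n0 F) = n0 F := by
    intro t
    rw [Pt_apply, n0_eq]
    apply ext8 <;> simp [pF]
  have hcom : Bl a b c d h * (Pt (f 3) * u) = (Pt (f 3) * u) * Bl a b c d h := by
    rw [← mul_assoc, Bl_Pt, mul_assoc, hu, mul_assoc]
  have g1 : ((Pt (f 3) * u : AutO F) : V F ≃ₗ[F] V F) e1 = e1 := by
    rw [mul_ap, ← hf, hfe, ← mul_ap, Pt_add]
    have hz : (Pt (-f 3) : V F ≃ₗ[F] V F) e1 3 = f 3 := by rw [← hfe]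
    rw [hz, add_neg_cancel, Pt_zero]
    rfl
  have g0 : ((Pt (f 3) * u : AutO F) : V F ≃ₗ[F] V F) (n0 F) = n0 F := by
    rw [mul_ap, hn, hPn]
  have g45 := hfix (((Pt (f 3) * u : AutO F) : V F ≃ₗ[F] V F) (n1 F)) (by
    rw [← mul_ap, hcom, mul_ap, Bl_n1])
  obtain ⟨a', b', c', d', h', hg⟩ := exists_Bl g1 g0 g45.2.2.1 g45.2.2.2
  exact ⟨-f 3, a', b', c', d', h', by rw [← hg, hPP]⟩

end Cfsg.Agent.H566.G2
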