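import Cfsg.Agent.H566.G2.Nf

/-!
# S3509, the groups `G₂(q)`: explicit elements centralising `diag(A', 1)` (helper566)
-/

set_option autoImplicit false
set_option linter.unusedSimpArgs false
open Cfsg

namespace Cfsg.Agent.H566.G2

open Cfsg.Lie Cfsg.Agent.H161.Oct

variable {F : Type} [Field F]

theorem swp_inv_apply (x : V F) : (swp F)⁻¹ x = swpF x := rfl

/-- upper element -/
def Pt (t : F) : AutO F := ⟨tau ![0, 0, t], tau_mem _⟩

/-- lower element -/
def Qt (t : F) : AutO F := ⟨swp F * tau ![0, 0, t] * (swp F)⁻¹,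
  (AutO F).mul_mem ((AutO F).mul_mem swp_mem (tau_mem _)) ((AutO F).inv_mem swp_mem)⟩

/-- the map of `Pt` -/
def pF (t : F) (x : V F) : V F :=
  ![x 0 + t * x 6, x 1, x 2, x 3 + (x 7 - x 0) * t - t * x 6 * t, x 4 + t * x 2, x 5 - t * x 1, x 6,
      x 7 - t * x 6]

/-- the map of `Qt` -/
def qF (t : F) (x : V F) : V F :=
  ![x 0 + t * x 3, x 1 + t * x 5, x 2 - t * x 4, x 3, x 4, x 5, x 6 + (x 7 - x 0) * t - t * x 3 * t,
      x 7 - t * x 3]

theorem Pt_apply (t : F) (x : V F) : (Pt t : V F ≃ₗ[F] V F) x = pF t x := by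
  change tauF ![0, 0, t] x = _
  apply ext8
  all_goals
    simp only [pF, tau0, tau1, tau2, tau3, tau4, tau5, tau6, tau7, Matrix.cons_val_zero, Matrix.cons_val_one,
      Matrix.cons_val]
  all_goals ring

theorem Qt_apply (t : F) (x : V F) : (Qt t : V F ≃ₗ[F] V F) x = qF t x := by
  change swpF (tauF ![0, 0, t] (swpF x)) = _
  apply ext8
  all_goals
    simp only [qF, tau0, tau1, tau2, tau3, tau4, tau5, tau6, tau7, swpF0, swpF1, swpF2, swpF3, swpF4, swpF5, swpF6, swpF7,
      Matrix.cons_val_zero, Matrix.cons_val_one, Matrix.cons_val]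
  all_goals ring

/-- block matrix -/
def bM (a b c d : F) : Matrix (Fin 3) (Fin 3) F := !![a, b, 0; c, d, 0; 0, 0, 1]

theorem det_bM (a b c d : F) : (bM a b c d).det = a * d - b * c := by
  simp [bM, Matrix.det_fin_three]

/-- the map of a block -/
def bF (a b c d : F) (x : V F) : V F :=
  ![x 0, a * x 1 + b * x 2, c * x 1 + d * x 2, x 3, d * x 4 - c * x 5, a * x 5 - b * x 4, x 6, x 7]

/-- block automorphism -/
noncomputable def Bl (a b c d : F) (h : a * d - b * c = 1) : AutO F :=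
  ⟨sl (bM a b c d) (by rw [det_bM, h]), sl_mem _ _⟩

theorem Bl_apply {a b c d : F} (h : a * d - b * c = 1) (x : V F) : (Bl a b c d h : V F ≃ₗ[F] V F) x = bF a b c d x := by
  change slF (bM a b c d) x = _
  apply ext8
  all_goals
    simp only [bF, bM, slF0, slF1, slF2, slF3, slF4, slF5, slF6, slF7, Matrix.of_apply, Matrix.cons_val',
      Matrix.cons_val_zero, Matrix.cons_val_one, Matrix.cons_val]
  all_goals (try ring)
  all_goals linear_combination (x 6) * h

theorem mul_ap (g h : AutO F) (x : V F) : ((g * h : AutO F) : V F ≃ₗ[F] V F) x =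
    (g : V F ≃ₗ[F] V F) ((h : V F ≃ₗ[F] V F) x) := rfl

theorem ext_ap {g h : AutO F} (H : ∀ x, (g : V F ≃ₗ[F] V F) x = (h : V F ≃ₗ[F] V F) x) : g = h :=
  Subtype.ext (LinearEquiv.ext H)

theorem Bl_Pt {a b c d : F} (h : a * d - b * c = 1) (t : F) : Bl a b c d h * Pt t = Pt t * Bl a b c d h := by
  apply ext_ap
  intro x
  rw [mul_ap, mul_ap, Bl_apply, Bl_apply, Pt_apply, Pt_apply]
  apply ext8
  all_goals
    simp only [bF, pF, Matrix.cons_val_zero, Matrix.cons_val_one, Matrix.cons_val]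
  all_goals ring

theorem Bl_Qt {a b c d : F} (h : a * d - b * c = 1) (t : F) : Bl a b c d h * Qt t = Qt t * Bl a b c d h := by
  apply ext_ap
  intro x
  rw [mul_ap, mul_ap, Bl_apply, Bl_apply, Qt_apply, Qt_apply]
  apply ext8
  all_goals
    simp only [bF, qF, Matrix.cons_val_zero, Matrix.cons_val_one, Matrix.cons_val]
  all_goals ring

theorem Pt_add (s t : F) : Pt s * Pt t = Pt (s + t) := by
  apply ext_ap
  intro x
  rw [mul_ap, Pt_apply, Pt_apply, Pt_apply]
  apply ext8
  all_goals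
    simp only [pF, Matrix.cons_val_zero, Matrix.cons_val_one, Matrix.cons_val]
  all_goals ring

theorem Pt_zero : Pt (0 : F) = 1 := by
  apply ext_ap
  intro x
  rw [Pt_apply]
  change _ = x
  apply ext8
  all_goals
    simp only [pF, Matrix.cons_val_zero, Matrix.cons_val_one, Matrix.cons_val]
  all_goals ring

theorem Pt_pow (t : F) (n : ℕ) : Pt t ^ n = Pt ((n : F) * t) := by
  induction n with
  | zero => rw [pow_zero, Nat.cast_zero, zero_mul, Pt_zero]
  | succ n ih => rw [pow_succ, ih, Pt_add, Nat.cast_succ]; congr 1; ring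

/-- the element of the Weyl group -/
def Wt (t : F) : AutO F := Pt t * Qt t⁻¹ * Pt t

/-- the involution -/
noncomputable def zz (F : Type) [Field F] : AutO F := Bl (-1) 0 0 (-1) (by ring)

theorem zz_apply (x : V F) : (zz F : V F ≃ₗ[F] V F) x = ![x 0, -x 1, -x 2, x 3, -x 4, -x 5, x 6, x 7] := by
  rw [zz, Bl_apply]
  apply ext8
  all_goals
    simp only [bF, Matrix.cons_val_zero, Matrix.cons_val_one, Matrix.cons_val]
  all_goals ring

/-- the map of `Wt` -/
theorem Wt_apply {t : F} (ht : t ≠ 0) (x : V F) : (Wt t : V F ≃ₗ[F] V F) x =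
    ![x 7, t⁻¹ * x 5, -(t⁻¹ * x 4), -(t ^ 2 * x 6), t * x 2, -(t * x 1), -(t⁻¹ ^ 2 * x 3), x 0] := by
  rw [Wt, mul_ap, mul_ap, Pt_apply, Qt_apply, Pt_apply]
  apply ext8
  all_goals
    simp only [pF, qF, Matrix.cons_val_zero, Matrix.cons_val_one, Matrix.cons_val]
  all_goals field_simp
  all_goals ring

theorem Wt_sq {t : F} (ht : t ≠ 0) : Wt t * Wt t = zz F := by
  apply ext_ap
  intro x
  rw [mul_ap, Wt_apply ht, Wt_apply ht, zz_apply]
  apply ext8
  all_goals
    simp only [Matrix.cons_val_zero, Matrix.cons_val_one, Matrix.cons_val]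
  all_goals field_simp

theorem Wt_conj {t : F} (ht : t ≠ 0) : Wt t * Pt t = Qt t⁻¹ * Wt t := by
  apply ext_ap
  intro x
  rw [mul_ap, mul_ap, Wt_apply ht, Wt_apply ht, Pt_apply, Qt_apply]
  apply ext8
  all_goals
    simp only [pF, qF, Matrix.cons_val_zero, Matrix.cons_val_one, Matrix.cons_val]
  all_goals field_simp
  all_goals ring

end Cfsg.Agent.H566.G2
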