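import Cfsg.Agent.H566.G2.CoreZ

/-!
# S3509, the groups `G₂(q)`: (C), the mixed case (helper566)
-/

set_option autoImplicit false
set_option linter.unusedSimpArgs false
open Cfsg

namespace Cfsg.Agent.H566.G2

open Cfsg.Lie Cfsg.Agent.H161.Oct

variable {F : Type} [Field F]

theorem pow_ap_of_sq {s : V F ≃ₗ[F] V F} {v : V F} (h : s (s v - v) = s v - v) (n : ℕ) :
    (s ^ n) v = v + (n : F) • (s v - v) := by
  induction n with
  | zero => simp
  | succ n ih =>
    rw [pow_succ', LinearEquiv.mul_apply, ih, map_add, map_smul, h, Nat.cast_succ, add_smul, one_smul]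
    abel

theorem eq_of_sq {s : V F ≃ₗ[F] V F} {m : ℕ} (hm : (m : F) ≠ 0) (hsm : s ^ m = 1) {v : V F}
    (h : s (s v - v) = s v - v) : s v = v := by
  have h1 := pow_ap_of_sq h m
  rw [hsm] at h1
  have h2 : (m : F) • (s v - v) = 0 := by
    have h3 : (1 : V F ≃ₗ[F] V F) v = v := rfl
    rw [h3] at h1
    exact (add_eq_left.1 h1.symm)
  exact sub_eq_zero.1 ((smul_eq_zero.1 h2).resolve_left hm)

/-- the fixed space of a block automorphism of order prime to the characteristic -/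
theorem Bl_fix {a b c d : F} (h : a * d - b * c = 1) (h1 : Bl a b c d h ≠ 1) {m : ℕ} (hm : (m : F) ≠ 0)
    (hsm : Bl a b c d h ^ m = 1) (v : V F) (hv : (Bl a b c d h : V F ≃ₗ[F] V F) v = v) :
    v 1 = 0 ∧ v 2 = 0 ∧ v 4 = 0 ∧ v 5 = 0 := by
  have key : a + d ≠ 2 := by
    intro h2
    apply h1
    apply ext_ap
    intro x
    change _ = x
    have hsm' : (Bl a b c d h : V F ≃ₗ[F] V F) ^ m = 1 := by
      rw [← Subgroup.coe_pow, hsm]; rfl
    refine eq_of_sq hm hsm' ?_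
    rw [map_sub]
    simp only [Bl_apply]
    apply ext8
    all_goals
      simp only [bF, Pi.sub_apply, Matrix.cons_val_zero, Matrix.cons_val_one, Matrix.cons_val]
    · linear_combination (a * x 1 + b * x 2) * h2 - x 1 * h
    · linear_combination (c * x 1 + d * x 2) * h2 - x 2 * h
    · linear_combination (d * x 4 - c * x 5) * h2 - x 4 * h
    · linear_combination (a * x 5 - b * x 4) * h2 - x 5 * h
  have k0 : (a - 1) * (d - 1) - b * c ≠ 0 := by
    intro h2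
    apply key
    linear_combination h - h2
  rw [Bl_apply] at hv
  have e1 : a * v 1 + b * v 2 = v 1 := congrFun hv 1
  have e2 : c * v 1 + d * v 2 = v 2 := congrFun hv 2
  have e4 : d * v 4 - c * v 5 = v 4 := congrFun hv 4
  have e5 : a * v 5 - b * v 4 = v 5 := congrFun hv 5
  refine ⟨?_, ?_, ?_, ?_⟩
  · refine (mul_eq_zero.1 (?_ : ((a - 1) * (d - 1) - b * c) * v 1 = 0)).resolve_left k0
    linear_combination (d - 1) * e1 - b * e2
  · refine (mul_eq_zero.1 (?_ : ((a - 1) * (d - 1) - b * c) * v 2 = 0)).resolve_left k0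
    linear_combination (a - 1) * e2 - c * e1
  · refine (mul_eq_zero.1 (?_ : ((a - 1) * (d - 1) - b * c) * v 4 = 0)).resolve_left k0
    linear_combination (a - 1) * e4 + c * e5
  · refine (mul_eq_zero.1 (?_ : ((a - 1) * (d - 1) - b * c) * v 5 = 0)).resolve_left k0
    linear_combination (d - 1) * e5 + b * e4

/-! ### characteristic two -/

/-- representation of functionals -/
theorem exists_bl (ψ : V F →ₗ[F] F) : ∃ z : V F, ∀ x, ψ x = bl z x := by
  have hinj : Function.Injective (blL F) := by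
    rw [injective_iff_map_eq_zero]
    intro x hx
    exact eq_zero_of_bl (fun y => by rw [← blL_apply, hx]; rfl)
  have hsur : Function.Surjective (blL F) :=
    (LinearMap.injective_iff_surjective_of_finrank_eq_finrank (Subspace.dual_finrank_eq (K := F) (V := V F)).symm).1 hinj
  obtain ⟨z, hz⟩ := hsur ψ
  exact ⟨z, fun x => by rw [← hz]; rfl⟩

theorem avg_comm {s u : V F ≃ₗ[F] V F} (h : s * u = u * s) (m : ℕ) (x : V F) : u (avg s m x) = avg s m (u x) := by
  have hc : ∀ i : ℕ, s ^ i * u = u * s ^ i := fun i => (show Commute s u from h).pow_left i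
  rw [avg, avg, map_sum]
  refine Finset.sum_congr rfl (fun i _ => ?_)
  have := LinearEquiv.congr_fun (hc i) x
  rw [LinearEquiv.mul_apply, LinearEquiv.mul_apply] at this
  exact this.symm

theorem bl_inv {g : V F ≃ₗ[F] V F} (hg : g ∈ AutO F) (x y : V F) : bl x (g y) = bl (g⁻¹ x) y := by
  have h := map_bl hg (g⁻¹ x) y
  have h2 : g (g⁻¹ x) = x := g.apply_symm_apply x
  rw [h2] at h
  exact h

theorem bl_avg_adj {s : V F ≃ₗ[F] V F} (hs : s ∈ AutO F) (m : ℕ) (x y : V F) :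
    bl x (avg s m y) = bl (avg s⁻¹ m x) y := by
  rw [avg, avg, ← blL_apply, ← blL_apply, map_sum, map_sum, LinearMap.sum_apply]
  refine Finset.sum_congr rfl (fun i _ => ?_)
  rw [blL_apply, blL_apply, bl_inv ((AutO F).pow_mem hs i), inv_pow]

theorem avg_linear (s : V F ≃ₗ[F] V F) (m : ℕ) : ∃ A : V F →ₗ[F] V F, ∀ x, A x = avg s m x := by
  refine ⟨∑ i ∈ Finset.range m, ((s ^ i : V F ≃ₗ[F] V F) : V F →ₗ[F] V F), fun x => ?_⟩
  rw [LinearMap.sum_apply]
  rfl

/-- characteristic two -/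
theorem mixed_two [CharP F 2] {s u : V F ≃ₗ[F] V F} (hs : s ∈ AutO F) (hu : u ∈ AutO F) {m : ℕ} (hm : (m : F) ≠ 0)
    (hsm : s ^ m = 1) (hsu : s * u = u * s) :
    ∃ e : V F, s e = e ∧ dsc e ≠ 0 ∧ ∃ a b : F, u e = a • o + b • e := by
  have h2 : (2 : F) = 0 := CharTwo.two_eq_zero
  have h4 : (4 : F) = 0 := by rw [show (4 : F) = 2 * 2 by norm_num, h2, zero_mul]
  by_cases hy : ∃ y : V F, s y = y ∧ u y = y ∧ tr y ≠ 0
  · obtain ⟨y, h1, h3, h5⟩ := hy
    refine ⟨y, h1, ?_, 0, 1, by rw [h3, zero_smul, one_smul, zero_add]⟩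
    unfold dsc
    rw [h4, zero_mul, sub_zero]
    exact pow_ne_zero 2 h5
  · push Not at hy
    obtain ⟨A, hA⟩ := avg_linear s m
    let C : V F →ₗ[F] V F := ((u : V F →ₗ[F] V F) - LinearMap.id) ∘ₗ A
    have hC : ∀ x, C x = u (avg s m x) - avg s m x := by
      intro x
      change u (A x) - A x = _
      rw [hA]
    have hker : trL F ∈ (LinearMap.ker C).dualAnnihilator := by
      rw [Submodule.mem_dualAnnihilator]
      intro x hx
      rw [LinearMap.mem_ker, hC, sub_eq_zero] at hx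
      have h3 := hy (avg s m x) (avg_fixed hsm x) hx
      rw [tr_avg hs] at h3
      exact (mul_eq_zero.1 h3).resolve_left hm
    rw [← LinearMap.range_dualMap_eq_dualAnnihilator_ker] at hker
    obtain ⟨ψ, hψ⟩ := hker
    obtain ⟨z2, hz2⟩ := exists_bl ψ
    set z := avg s⁻¹ m z2 with hz
    have hsz : s z = z := by
      have h3 : s⁻¹ z = z := avg_fixed (by rw [inv_pow, hsm, inv_one]) z2
      have h5 : s (s⁻¹ z) = z := s.apply_symm_apply z
      rwa [h3] at h5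
    have key : ∀ y, bl o y = bl (u⁻¹ z - z) y := by
      intro y
      have h3 : trL F y = ψ (C y) := by rw [← hψ]; rfl
      rw [trL_apply, hz2, hC, avg_comm hsu, show avg s m (u y) - avg s m y = avg s m (u y - y) by
        rw [← hA, ← hA, ← hA, map_sub]] at h3
      rw [bl_avg_adj hs, ← hz] at h3
      rw [bl_comm, bl_o, h3, sub_eq_add_neg, bl_add, sub_eq_add_neg, bl_add', bl_inv hu]
      congr 1
      rw [← neg_one_smul F y, bl_smul, ← neg_one_smul F z, bl_smul']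
    have hoz : u⁻¹ z - z = o := by
      have h3 : (u⁻¹ z - z) - o = 0 := by
        apply eq_zero_of_bl
        intro y
        rw [sub_eq_add_neg, bl_add', ← key y, ← neg_one_smul F o, bl_smul']
        ring
      exact sub_eq_zero.1 h3
    have huz : u z = z - o := by
      have h3 : u⁻¹ z = z + o := by rw [← hoz]; abel
      have h5 : u (u⁻¹ z) = z := u.apply_symm_apply z
      rw [h3, map_add, map_o hu] at h5
      exact eq_sub_of_add_eq h5
    have htr : tr z = 1 := by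
      have h3 := map_nm hu z
      rw [huz, sub_eq_add_neg, nm_add, ← neg_one_smul F o, nm_smul, bl_smul, bl_o, nm_o] at h3
      linear_combination -h3
    refine ⟨z, hsz, ?_, -1, 1, by rw [huz, neg_one_smul, one_smul]; abel⟩
    unfold dsc
    rw [htr, h4]
    simp

/-! ### odd characteristic -/

/-- a common fixed vector -/
theorem exists_fixed_two {p : ℕ} [CharP F p] (hp : p.Prime) {s u : V F ≃ₗ[F] V F} (hu : u ∈ AutO F) (hup : u ^ p = 1)
    (hsu : s * u = u * s) {b : V F} (hb : b ≠ 0) (hsb : s b = b) (htb : tr b = 0) :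
    ∃ n : V F, n ≠ 0 ∧ s n = n ∧ u n = n ∧ tr n = 0 := by
  classical
  have : Fact p.Prime := ⟨hp⟩
  have : CharP (Module.End F (V F)) p := charP_of_injective_algebraMap (FaithfulSMul.algebraMap_injective F _) p
  let D : Module.End F (V F) := (u : V F →ₗ[F] V F) - 1
  have hDa : ∀ x, D x = u x - x := fun x => rfl
  have hDp : D ^ p = 0 := by
    have h1 : D ^ p = (u : V F →ₗ[F] V F) ^ p - 1 ^ p := sub_pow_char_of_commute p (Commute.one_right _)
    rw [h1, one_pow]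
    have h2 : (u : V F →ₗ[F] V F) ^ p = 1 := by
      have h3 := congrArg (LinearEquiv.automorphismGroup.toLinearMapMonoidHom (R := F) (M := V F)) hup
      rw [map_pow, map_one] at h3
      exact h3
    rw [h2, sub_self]
  have hex : ∃ k, (D ^ k) b = 0 := ⟨p, by rw [hDp]; rfl⟩
  obtain ⟨k, hk⟩ : ∃ k, Nat.find hex = k + 1 := by
    refine Nat.exists_eq_succ_of_ne_zero (fun h0 => ?_)
    have h1 := Nat.find_spec hex
    rw [h0] at h1
    exact hb h1
  have h1 := Nat.find_spec hex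
  have h2 : (D ^ k) b ≠ 0 := fun h => absurd (Nat.find_min' hex h) (by omega)
  rw [hk] at h1
  have hcs : ∀ x, s (D x) = D (s x) := by
    intro x
    rw [hDa, hDa, map_sub]
    congr 1
    exact LinearEquiv.congr_fun hsu x
  have hs : ∀ j : ℕ, s ((D ^ j) b) = (D ^ j) b := by
    intro j
    induction j with
    | zero => exact hsb
    | succ j ih => rw [pow_succ', Module.End.mul_apply, hcs, ih]
  have ht : ∀ j : ℕ, tr ((D ^ j) b) = 0 := by
    intro j
    induction j with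
    | zero => exact htb
    | succ j ih =>
      rw [pow_succ', Module.End.mul_apply, hDa, ← trL_apply, map_sub, trL_apply, trL_apply, map_tr hu, sub_self]
  refine ⟨(D ^ k) b, h2, hs k, ?_, ht k⟩
  rw [pow_succ', Module.End.mul_apply, hDa, sub_eq_zero] at h1
  exact h1

/-- the second nilpotent element -/
theorem exists_partner (h2 : (2 : F) ≠ 0) {s : V F ≃ₗ[F] V F} (hs : s ∈ AutO F) {m : ℕ} (hm : (m : F) ≠ 0)
    (hsm : s ^ m = 1) {n : V F} (hn0 : n ≠ 0) (hsn : s n = n) (htn : tr n = 0) (hn : nm n = 0) :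
    ∃ n' : V F, s n' = n' ∧ tr n' = 0 ∧ nm n' = 0 ∧ bl n n' = -1 := by
  obtain ⟨w, hw⟩ : ∃ w, bl n w ≠ 0 := by
    by_contra hcon
    push Not at hcon
    exact hn0 (eq_zero_of_bl hcon)
  set w1 := avg s m w with hw1
  have f1 : s w1 = w1 := avg_fixed hsm _
  have f3 : bl n w1 ≠ 0 := by
    rw [hw1, bl_avg hs hsn]
    exact mul_ne_zero hm hw
  set w2 := w1 + (-(tr w1 / 2)) • o with hw2
  have g1 : s w2 = w2 := by rw [hw2, map_add, map_smul, f1, map_o hs]
  have g2 : tr w2 = 0 := by rw [hw2, tr_add, tr_smul, tr_o]; field_simp; ring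
  have g3 : bl n w2 = bl n w1 := by rw [hw2, bl_add, bl_smul, bl_o, htn]; ring
  set w3 := (-(bl n w1)⁻¹) • w2 with hw3
  have k1 : s w3 = w3 := by rw [hw3, map_smul, g1]
  have k2 : tr w3 = 0 := by rw [hw3, tr_smul, g2, mul_zero]
  have k3 : bl n w3 = -1 := by
    rw [hw3, bl_smul, g3, neg_mul, inv_mul_cancel₀ f3]
  clear_value w3
  refine ⟨w3 + nm w3 • n, by rw [map_add, map_smul, k1, hsn], by rw [tr_add, tr_smul, k2, htn]; ring, ?_, ?_⟩
  · rw [nm_add, nm_smul, hn, bl_smul, bl_comm w3 n, k3]; ring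
  · have h5 : bl n n = 0 := by
      have h6 := nm_add n n
      have h7 : nm (n + n) = 2 ^ 2 * nm n := by rw [← two_smul F n, nm_smul]
      rw [h7, hn] at h6
      linear_combination -h6
    rw [bl_add, bl_smul, k3, h5]; ring

theorem zz_Bl {a b c d : F} (h : a * d - b * c = 1) : Bl a b c d h * zz F = zz F * Bl a b c d h := by
  apply ext_ap
  intro x
  rw [mul_ap, mul_ap, Bl_apply, Bl_apply, zz_apply, zz_apply]
  apply ext8
  all_goals
    simp only [bF, Matrix.cons_val_zero, Matrix.cons_val_one, Matrix.cons_val]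
  all_goals ring

theorem zz_Pt (t : F) : Pt t * zz F = zz F * Pt t := (Bl_Pt _ t).symm

theorem inv_ap (g : AutO F) (x : V F) : (g : V F ≃ₗ[F] V F) (((g⁻¹ : AutO F) : V F ≃ₗ[F] V F) x) = x :=
  (g : V F ≃ₗ[F] V F).apply_symm_apply x

theorem inv_ap' (g : AutO F) (x : V F) : ((g⁻¹ : AutO F) : V F ≃ₗ[F] V F) ((g : V F ≃ₗ[F] V F) x) = x :=
  (g : V F ≃ₗ[F] V F).symm_apply_apply x

theorem dsc_map (g : AutO F) (x : V F) : dsc ((g : V F ≃ₗ[F] V F) x) = dsc x := by
  unfold dsc; rw [map_tr g.2, map_nm g.2]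

/-- odd characteristic -/
theorem mixed_odd {p : ℕ} [CharP F p] (hp : p.Prime) (hp2 : p ≠ 2) (h2 : (2 : F) ≠ 0) {s u : AutO F} (hs1 : s ≠ 1)
    (hdet : LinearMap.det ((s : V F ≃ₗ[F] V F) : V F →ₗ[F] V F) = 1) {m : ℕ} (hm : (m : F) ≠ 0) (hsm : s ^ m = 1)
    (hup : u ^ p = 1) (hsu : s * u = u * s)
    (hno : ¬ ∃ e : V F, (s : V F ≃ₗ[F] V F) e = e ∧ dsc e ≠ 0 ∧ PK e u) :
    ∃ z : AutO F, z ^ 2 = 1 ∧ z ≠ 1 ∧ s * z = z * s ∧ u * z = z * u ∧
      (∀ t : AutO F, t ^ 2 = 1 → t ≠ 1 → (∀ v, (s : V F ≃ₗ[F] V F) v = v → (t : V F ≃ₗ[F] V F) v = v) → t = z) ∧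
      ∀ N : Subgroup (AutO F), (∀ c, c * s = s * c → ∀ n ∈ N, c * n * c⁻¹ ∈ N) → u ∈ N → z ∈ N := by
  have hsm' : (s : V F ≃ₗ[F] V F) ^ m = 1 := by rw [← Subgroup.coe_pow, hsm]; rfl
  have hup' : (u : V F ≃ₗ[F] V F) ^ p = 1 := by rw [← Subgroup.coe_pow, hup]; rfl
  have hsu' : (s : V F ≃ₗ[F] V F) * (u : V F ≃ₗ[F] V F) = (u : V F ≃ₗ[F] V F) * (s : V F ≃ₗ[F] V F) :=
    congrArg Subtype.val hsu
  obtain ⟨e0, he0, hd0⟩ := exists_e' s.2 hdet hm hsm'
  set b : V F := e0 + (-(tr e0 / 2)) • o with hb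
  have tb : tr b = 0 := by rw [hb, tr_add, tr_smul, tr_o]; field_simp; ring
  have sb : (s : V F ≃ₗ[F] V F) b = b := by rw [hb, map_add, map_smul, he0, map_o s.2]
  have b0 : b ≠ 0 := by
    intro h
    apply hd0
    have h3 : dsc b = dsc e0 := by rw [hb, add_comm, dsc_add_o]
    rw [← h3, h]
    simp [dsc, tr, nm]
  obtain ⟨n, hn0, hsn, hun, htn⟩ := exists_fixed_two hp u.2 hup' hsu' b0 sb tb
  have hnn : nm n = 0 := by
    by_contra hne
    apply hno
    refine ⟨n, hsn, ?_, 0, 1, by rw [hun, zero_smul, one_smul, zero_add]⟩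
    unfold dsc
    rw [htn]
    intro h
    have h5 : (2 : F) * (2 * nm n) = 0 := by linear_combination -h
    rcases mul_eq_zero.1 h5 with h6 | h6
    · exact h2 h6
    · rcases mul_eq_zero.1 h6 with h7 | h7
      · exact h2 h7
      · exact hne h7
  obtain ⟨n', hsn', htn', hnn', hbn⟩ := exists_partner h2 s.2 hm hsm' hn0 hsn htn hnn
  obtain ⟨h0, hh0, hhn, hhn'⟩ := exists_nf htn htn' hnn hnn' hbn
  set h : AutO F := ⟨h0, hh0⟩ with hh
  have hin : ((h⁻¹ : AutO F) : V F ≃ₗ[F] V F) (n0 F) = n := by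
    have h3 : (h : V F ≃ₗ[F] V F) n = n0 F := hhn
    rw [← h3, inv_ap']
  have hin' : ((h⁻¹ : AutO F) : V F ≃ₗ[F] V F) (n1 F) = n' := by
    have h3 : (h : V F ≃ₗ[F] V F) n' = n1 F := hhn'
    rw [← h3, inv_ap']
  have cj : ∀ (g : AutO F) (x : V F), ((h * g * h⁻¹ : AutO F) : V F ≃ₗ[F] V F) x =
      (h : V F ≃ₗ[F] V F) ((g : V F ≃ₗ[F] V F) (((h⁻¹ : AutO F) : V F ≃ₗ[F] V F) x)) := fun g x => rfl
  have s0 : ((h * s * h⁻¹ : AutO F) : V F ≃ₗ[F] V F) (n0 F) = n0 F := by rw [cj, hin, hsn]; exact hhn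
  have s4 : ((h * s * h⁻¹ : AutO F) : V F ≃ₗ[F] V F) (n1 F) = n1 F := by rw [cj, hin', hsn']; exact hhn'
  have u0 : ((h * u * h⁻¹ : AutO F) : V F ≃ₗ[F] V F) (n0 F) = n0 F := by rw [cj, hin, hun]; exact hhn
  have s1 : ((h * s * h⁻¹ : AutO F) : V F ≃ₗ[F] V F) e1 = e1 := by
    rw [← n0_mul_n1, mem_AutO.1 (h * s * h⁻¹ : AutO F).2, s0, s4]
  obtain ⟨a, b', c, d, hdt, hsB⟩ := exists_Bl s1 s0 (by rw [s4]; rfl) (by rw [s4]; rfl)
  have hB1 : Bl a b' c d hdt ≠ 1 := by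
    rw [← hsB]
    intro h3
    apply hs1
    rw [mul_inv_eq_one] at h3
    exact mul_left_cancel (by rw [h3, mul_one])
  have hBm : Bl a b' c d hdt ^ m = 1 := by rw [← hsB, conj_pow, hsm, mul_one, mul_inv_cancel]
  have hcu : Bl a b' c d hdt * (h * u * h⁻¹) = (h * u * h⁻¹) * Bl a b' c d hdt := by
    rw [← hsB]
    calc h * s * h⁻¹ * (h * u * h⁻¹) = h * (s * u) * h⁻¹ := by group
      _ = h * u * h⁻¹ * (h * s * h⁻¹) := by rw [hsu]; group
  obtain ⟨t, a', b'', c', d', hdt', huB⟩ := exists_u hdt (Bl_fix hdt hB1 hm hBm) hcu u0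
  have ht : t ≠ 0 := by
    rintro rfl
    rw [Pt_zero, one_mul] at huB
    have u1 : ((h * u * h⁻¹ : AutO F) : V F ≃ₗ[F] V F) e1 = e1 := by rw [huB, Bl_e1]
    apply hno
    have back : ∀ g : AutO F, ((h * g * h⁻¹ : AutO F) : V F ≃ₗ[F] V F) e1 = e1 →
        (g : V F ≃ₗ[F] V F) (((h⁻¹ : AutO F) : V F ≃ₗ[F] V F) e1) = ((h⁻¹ : AutO F) : V F ≃ₗ[F] V F) e1 := by
      intro g hg
      rw [cj] at hg
      have h3 := congrArg ((h⁻¹ : AutO F) : V F ≃ₗ[F] V F) hg
      rwa [inv_ap'] at h3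
    refine ⟨((h⁻¹ : AutO F) : V F ≃ₗ[F] V F) e1, back s s1, ?_, 0, 1, ?_⟩
    · rw [dsc_map]
      simp [dsc, tr, nm, e1]
    · rw [back u u1, zero_smul, one_smul, zero_add]
  have conjz : ∀ g : AutO F, (h * g * h⁻¹) * zz F = zz F * (h * g * h⁻¹) → g * (h⁻¹ * zz F * h) = (h⁻¹ * zz F * h) * g := by
    intro g hg
    calc g * (h⁻¹ * zz F * h) = h⁻¹ * ((h * g * h⁻¹) * zz F) * h := by group
      _ = (h⁻¹ * zz F * h) * g := by rw [hg]; group
  refine ⟨h⁻¹ * zz F * h, ?_, ?_, ?_, ?_, ?_, ?_⟩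
  · have h3 : (h⁻¹ * zz F * h) ^ 2 = h⁻¹ * (zz F) ^ 2 * h := by
      have := conj_pow (i := 2) (a := h⁻¹) (b := zz F)
      rwa [inv_inv] at this
    rw [h3, zz_sq, mul_one, inv_mul_cancel]
  · intro h3
    apply zz_ne (F := F) h2
    calc zz F = h * (h⁻¹ * zz F * h) * h⁻¹ := by group
      _ = 1 := by rw [h3, mul_one, mul_inv_cancel]
  · apply conjz
    rw [hsB, zz_Bl]
  · apply conjz
    rw [huB, mul_assoc, zz_Bl, ← mul_assoc, zz_Pt, mul_assoc]
  · intro t' ht2 ht1 hfix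
    have h3 : h * t' * h⁻¹ = zz F := by
      apply zz_unique h2
      · rw [conj_pow, ht2, mul_one, mul_inv_cancel]
      · intro h4
        apply ht1
        rw [mul_inv_eq_one] at h4
        exact mul_left_cancel (by rw [h4, mul_one])
      · intro v v1 v2 v4 v5
        have h4 : ((h * s * h⁻¹ : AutO F) : V F ≃ₗ[F] V F) v = v := by
          rw [hsB, Bl_apply]
          apply ext8 <;> simp [bF, v1, v2, v4, v5]
        rw [cj] at h4 ⊢
        have h5 := congrArg ((h⁻¹ : AutO F) : V F ≃ₗ[F] V F) h4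
        rw [inv_ap'] at h5
        rw [hfix _ h5, inv_ap]
    rw [← h3]; group
  · intro N hN huN
    let N1 : Subgroup (AutO F) := N.map (MulAut.conj h).toMonoidHom
    have memN1 : ∀ g : AutO F, h * g * h⁻¹ ∈ N1 ↔ g ∈ N := by
      intro g
      constructor
      · rintro ⟨g', hg', h3⟩
        have h4 : h * g' * h⁻¹ = h * g * h⁻¹ := h3
        have h5 : g' = g := mul_left_cancel (mul_right_cancel h4)
        rwa [← h5]
      · intro hg
        exact ⟨g, hg, rfl⟩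
    have h3 : zz F ∈ N1 := by
      refine zz_mem (p := p) hp hp2 hdt ht hdt' ?_ (by rw [← huB]; exact (memN1 u).2 huN)
      intro g hg x hx
      have e1 : x = h * (h⁻¹ * x * h) * h⁻¹ := by group
      have e2 : g = h * (h⁻¹ * g * h) * h⁻¹ := by group
      rw [e1] at hx
      have hx' := (memN1 _).1 hx
      have h4 : (h⁻¹ * g * h) * s = s * (h⁻¹ * g * h) := by
        rw [← hsB] at hg
        calc (h⁻¹ * g * h) * s = h⁻¹ * (g * (h * s * h⁻¹)) * h := by group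
          _ = s * (h⁻¹ * g * h) := by rw [hg]; group
      have h5 := (memN1 _).2 (hN _ h4 _ hx')
      have h6 : h * (h⁻¹ * g * h * (h⁻¹ * x * h) * (h⁻¹ * g * h)⁻¹) * h⁻¹ = g * x * g⁻¹ := by group
      rwa [h6] at h5
    have e1 : zz F = h * (h⁻¹ * zz F * h) * h⁻¹ := by group
    rw [e1] at h3
    exact (memN1 _).1 h3

/-- **(C)** -/
theorem mixed_alg [Finite F] {p : ℕ} [CharP F p] {s u : AutO F} (hs1 : s ≠ 1)
    (hdet : LinearMap.det ((s : V F ≃ₗ[F] V F) : V F →ₗ[F] V F) = 1) {m : ℕ} (hm : ¬ p ∣ m) (hsm : s ^ m = 1)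
    (hup : u ^ p = 1) (hsu : s * u = u * s) :
    (∃ e : V F, (s : V F ≃ₗ[F] V F) e = e ∧ dsc e ≠ 0 ∧ PK e u) ∨
    (p ≠ 2 ∧ ∃ z : AutO F, z ^ 2 = 1 ∧ z ≠ 1 ∧ s * z = z * s ∧ u * z = z * u ∧
      (∀ t : AutO F, t ^ 2 = 1 → t ≠ 1 → (∀ v, (s : V F ≃ₗ[F] V F) v = v → (t : V F ≃ₗ[F] V F) v = v) → t = z) ∧
      ∀ N : Subgroup (AutO F), (∀ c, c * s = s * c → ∀ n ∈ N, c * n * c⁻¹ ∈ N) → u ∈ N → z ∈ N) := by
  have hp : p.Prime := (CharP.char_is_prime_or_zero F p).resolve_right (fun h => CharP.char_ne_zero_of_finite F p h)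
  have hm0 : (m : F) ≠ 0 := fun h => hm ((CharP.cast_eq_zero_iff F p m).1 h)
  by_cases hp2 : p = 2
  · subst hp2
    left
    have hsm' : (s : V F ≃ₗ[F] V F) ^ m = 1 := by rw [← Subgroup.coe_pow, hsm]; rfl
    exact mixed_two s.2 u.2 hm0 hsm' (congrArg Subtype.val hsu)
  · have h2 : (2 : F) ≠ 0 := by
      intro h
      have h3 : ((2 : ℕ) : F) = 0 := by exact_mod_cast h
      rw [CharP.cast_eq_zero_iff F p] at h3
      rcases (Nat.dvd_prime Nat.prime_two).1 h3 with h4 | h4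
      · exact hp.one_lt.ne' h4
      · exact hp2 h4
    by_cases hno : ∃ e : V F, (s : V F ≃ₗ[F] V F) e = e ∧ dsc e ≠ 0 ∧ PK e u
    · exact Or.inl hno
    · exact Or.inr ⟨hp2, mixed_odd hp hp2 h2 hs1 hdet hm0 hsm hup hsu hno⟩

end Cfsg.Agent.H566.G2
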