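import Cfsg.Agent.H566.G2.Fix

/-!
# S3509, the groups `G₂(q)`: transitivity on the hyperbolic pairs of nilpotent elements of a quaternion algebra (helper566)
-/

set_option autoImplicit false
set_option linter.unusedSimpArgs false
open Cfsg

namespace Cfsg.Agent.H566.G2

open Cfsg.Lie Cfsg.Agent.H161.Oct

variable {F : Type} [Field F]

theorem nm_zmul (x y : V F) : nm (zornMul x y) = nm x * nm y := by
  simp only [nm, mul0, mul1, mul2, mul3, mul4, mul5, mul6, mul7]; ring

theorem tr_zmul (x y : V F) : tr (zornMul x y) = tr x * tr y - bl x y := by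
  simp only [tr, bl, mul0, mul7]; ring

theorem zmul_flex (x y : V F) :
    zornMul (zornMul x y) x = tr (zornMul x y) • x - nm x • (tr y • o - y) := by
  apply ext8 <;> simp only [mul0, mul1, mul2, mul3, mul4, mul5, mul6, mul7, Pi.sub_apply,
    Pi.smul_apply, smul_eq_mul, o0, o1, o2, o3, o4, o5, o6, o7, tr, nm] <;> ring

theorem zmul_left (x y : V F) : zornMul x (zornMul x y) = zornMul (zornMul x x) y := by
  apply ext8 <;> simp only [mul0, mul1, mul2, mul3, mul4, mul5, mul6, mul7] <;> ring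

theorem zmul_right (x y : V F) : zornMul (zornMul x y) y = zornMul x (zornMul y y) := by
  apply ext8 <;> simp only [mul0, mul1, mul2, mul3, mul4, mul5, mul6, mul7] <;> ring

theorem zmul_flex' (x y : V F) : zornMul y (zornMul x y) = zornMul (zornMul y x) y := by
  apply ext8 <;> simp only [mul0, mul1, mul2, mul3, mul4, mul5, mul6, mul7] <;> ring

/-- a matrix of determinant one with first data -/
theorem exists_sl3 {v w : Fin 3 → F} (h : v 0 * w 0 + v 1 * w 1 + v 2 * w 2 = 1) :
    ∃ D : Matrix (Fin 3) (Fin 3) F, D.det = 1 ∧ D.mulVec v = ![0, 0, 1] ∧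
      ![0, 0, 1] = fun j => ∑ i, (D.adjugate i j) * w i := by
  -- the inverse matrix `[a, b, v]` with `a × b = w`
  obtain ⟨a, b, h0, h1, h2⟩ : ∃ a b : Fin 3 → F, a 1 * b 2 - a 2 * b 1 = w 0 ∧ a 2 * b 0 - a 0 * b 2 = w 1 ∧
      a 0 * b 1 - a 1 * b 0 = w 2 := by
    by_cases hw : w 0 = 0
    · by_cases hw1 : w 1 = 0
      · have hw2 : w 2 ≠ 0 := by
          intro hw2
          rw [hw, hw1, hw2] at h
          simp at h
        exact ⟨![w 2, 0, 0], ![0, 1, 0], by simp [hw], by simp [hw1], by simp⟩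
      · refine ⟨![0, - w 2 / w 1, 1], ![w 1, 0, 0], by simp [hw], by simp, ?_⟩
        simp
        field_simp
    · refine ⟨![- w 1, w 0, 0], ![- w 2 / w 0, 0, 1], by simp, by simp, ?_⟩
      simp
      field_simp
  let E : Matrix (Fin 3) (Fin 3) F := !![a 0, b 0, v 0; a 1, b 1, v 1; a 2, b 2, v 2]
  have hE : E.det = 1 := by
    rw [Matrix.det_fin_three]
    simp [E]
    linear_combination h + v 0 * h0 + v 1 * h1 + v 2 * h2
  refine ⟨E.adjugate, ?_, ?_, ?_⟩
  · rw [Matrix.det_adjugate, hE, one_pow]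
  · have h3 : E.mulVec ![0, 0, 1] = v := by
      funext i
      fin_cases i <;> simp [E, Matrix.mulVec, dotProduct, Fin.sum_univ_three]
    conv_lhs => rw [← h3]
    rw [Matrix.mulVec_mulVec, Matrix.adjugate_mul, hE, one_smul, Matrix.one_mulVec]
  · have h4 : E.adjugate.adjugate = E := by
      rw [Matrix.adjugate_adjugate E (by simp), hE, one_pow, one_smul]
    rw [h4]
    funext j
    fin_cases j
    · simp [E, Fin.sum_univ_three]
      linear_combination a 0 * h0 + a 1 * h1 + a 2 * h2
    · simp [E, Fin.sum_univ_three]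
      linear_combination b 0 * h0 + b 1 * h1 + b 2 * h2
    · simp [E, Fin.sum_univ_three]
      linear_combination -h

/-- **Transitivity** -/
theorem exists_nf {n n' : V F} (htn : tr n = 0) (htn' : tr n' = 0) (hn : nm n = 0) (hn' : nm n' = 0)
    (hb : bl n n' = -1) : ∃ h ∈ AutO F, h n = iA ![0, 0, 1] ∧ h n' = iB ![0, 0, 1] := by
  have ht : tr (zornMul n n') = 1 := by rw [tr_zmul, htn, htn', hb]; ring
  obtain ⟨h1, hh1, he⟩ := exists_idem ht (by rw [nm_zmul, hn, zero_mul])
  have hs : zornMul n n = 0 := by rw [sq_eq, htn, hn, zero_smul, zero_smul, sub_zero]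
  have hs' : zornMul n' n' = 0 := by rw [sq_eq, htn', hn', zero_smul, zero_smul, sub_zero]
  have z0 : ∀ x : V F, zornMul 0 x = 0 := fun x => by
    apply ext8 <;> simp [mul0, mul1, mul2, mul3, mul4, mul5, mul6, mul7]
  have z0' : ∀ x : V F, zornMul x 0 = 0 := fun x => by
    apply ext8 <;> simp [mul0, mul1, mul2, mul3, mul4, mul5, mul6, mul7]
  -- the image of `n`
  have a1 : zornMul e1 (h1 n) = h1 n := by
    rw [← he, ← mem_AutO.1 hh1, zmul_flex, ht, hn, one_smul, zero_smul, sub_zero]
  have a2 : zornMul (h1 n) e1 = 0 := by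
    rw [← he, ← mem_AutO.1 hh1, zmul_left, hs, z0, map_zero]
  have b1 : zornMul e1 (h1 n') = 0 := by
    rw [← he, ← mem_AutO.1 hh1, zmul_right, hs', z0', map_zero]
  have b2 : zornMul (h1 n') e1 = h1 n' := by
    have h3 : tr (zornMul n' n) = 1 := by rw [tr_zmul, htn, htn', bl_comm, hb]; ring
    rw [← he, ← mem_AutO.1 hh1, zmul_flex', zmul_flex, h3, hn', one_smul, zero_smul, sub_zero]
  have A : h1 n = iA ![h1 n 1, h1 n 2, h1 n 3] := by
    rw [e1_mul] at a1
    rw [mul_e1] at a2
    rw [iA_apply]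
    apply ext8
    · exact congrFun a2 0
    · rfl
    · rfl
    · rfl
    · exact (congrFun a1 4).symm
    · exact (congrFun a1 5).symm
    · exact (congrFun a1 6).symm
    · exact (congrFun a1 7).symm
  have B : h1 n' = iB ![h1 n' 4, h1 n' 5, h1 n' 6] := by
    rw [e1_mul] at b1
    rw [mul_e1] at b2
    rw [iB_apply]
    apply ext8
    · exact congrFun b1 0
    · exact congrFun b1 1
    · exact congrFun b1 2
    · exact congrFun b1 3
    · rfl
    · rfl
    · rfl
    · exact (congrFun b2 7).symm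
  have C : h1 n 1 * h1 n' 4 + h1 n 2 * h1 n' 5 + h1 n 3 * h1 n' 6 = 1 := by
    have h4 := map_bl hh1 n n'
    rw [hb, A, B, iA_apply, iB_apply] at h4
    simp [bl] at h4
    linear_combination -h4
  obtain ⟨D, hD, d1, d2⟩ := exists_sl3 (v := ![h1 n 1, h1 n 2, h1 n 3]) (w := ![h1 n' 4, h1 n' 5, h1 n' 6]) C
  refine ⟨sl D hD * h1, (AutO F).mul_mem (sl_mem D hD) hh1, ?_, ?_⟩
  · rw [LinearEquiv.mul_apply, sl_apply, A, ← d1]
    apply ext8
    all_goals
      simp [slF0, slF1, slF2, slF3, slF4, slF5, slF6, slF7, iA_apply, Matrix.mulVec, dotProduct, Fin.sum_univ_three]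
  · rw [LinearEquiv.mul_apply, sl_apply, B, d2]
    rw [Matrix.adjugate_fin_three]
    apply ext8
    all_goals
      simp only [slF0, slF1, slF2, slF3, slF4, slF5, slF6, slF7, iB_apply, Fin.sum_univ_three, Matrix.of_apply,
        Matrix.cons_val', Matrix.cons_val_zero, Matrix.cons_val_one, Matrix.cons_val]
    all_goals ring

end Cfsg.Agent.H566.G2
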